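import Mathlib
import Cfsg.Agent.Lib.Comput.Check2
import Cfsg.Agent.Lib.Comput.NetModel
import Cfsg.Agent.Lib.Leech.CHS.Data

/-! generated by tools/cgt -/

set_option autoImplicit false
set_option maxRecDepth 100000

namespace CfsgLib.Leech.CHS

open CfsgLib.Comput

def R6_0 : RepC := ⟨23, 1, [],
  []⟩
def S6_0 : GenC := ⟨23, [],
  [(0, 0, 0, 1, 0), (0, 1, 0, 0, 0)], 0⟩
def L6 : Level := ⟨0x0, 0x400000, [], 1, 4, 0, 2, [R6_0], [S6_0]⟩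
def X6 : Ext := []

def R5_0 : RepC := ⟨21, 2, [],
  []⟩
def S5_0 : GenC := ⟨21, [],
  [(0, 0, 0, 1, 0), (0, 1, 0, 0, 0), (23, 1, 23, 1, 23)], 0⟩
def L5 : Level := ⟨0x400000, 0x700000, [23], 2, 7, 0, 3, [R5_0], [S5_0]⟩
def X5 : Ext := [(21, 0, 0x171517)]

def R4_0 : RepC := ⟨17, 3, [(21, 23)],
  [(27, 1, [1])]⟩
def S4_0 : GenC := ⟨18, [(21, 23)],
  [(0, 0, 22, 1, 22), (0, 1, 0, 0, 0), (22, 1, 23, 1, 21)], 1⟩
def L4 : Level := ⟨0x700000, 0x7f0000, [21, 23], 6, 140, 0, 4, [R4_0], [S4_0]⟩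
def X4 : Ext := [(16, 18, 0), (18, 0, 0x1115), (19, 19, 0)]

def R3_0 : RepC := ⟨15, 4, [(0x1617, 0x1117), (23, 0x121617)],
  [(27, 2, [1, 2])]⟩
def S3_0 : GenC := ⟨14, [(0x1117, 0x141617), (0x111517, 0x121617)],
  [(0, 0, 17, 1, 0), (20, 1, 0, 0, 23), (0, 1, 18, 1, 0x1417)], 2⟩
def L3 : Level := ⟨0x7f0000, 0x7ff000, [18, 21, 23], 24, 3, 0, 5, [R3_0], [S3_0]⟩
def X3 : Ext := [(12, 14, 0), (14, 0, 0x120e), (15, 15, 0)]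

def R2_0 : RepC := ⟨0xc0c, 5, [(0x1416, 0xd121617), (22, 0xe11)],
  [(86, 4, [1, 2])]⟩
def R2_1 : RepC := ⟨11, 6, [(0xf17, 0xf12), (0x1416, 0x160e1117)],
  [(8, 4, [1, 2])]⟩
def S2_0 : GenC := ⟨12, [(0xf17, 0xf12)],
  [(0, 0, 17, 2, 0x160e), (0, 1, 23, 2, 0xf1216), (0, 2, 0, 0, 0), (17, 2, 0, 1, 0xd16)], 4⟩
def L2 : Level := ⟨0x7ff000, 0x7fff00, [14, 18, 21, 23], 120, 2, 0, 12, [R2_0, R2_1], [S2_0]⟩
def X2 : Ext := [(10, 12, 0), (8, 0, 0xb160c1617), (9, 9, 0)]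

def R1_0 : RepC := ⟨0xc06, 12, [(0x111517, 0xb0b0d111617), (0xd1117, 0xc0c1617)],
  [(25, 7, [1, 2]), (4, 1, [1])]⟩
def R1_1 : RepC := ⟨7, 72, [(0xb0b141617, 0xb0b141517), (0xd1415, 0xe15)],
  [(28, 4, [1, 2])]⟩
def R1_2 : RepC := ⟨0x705, 90, [(0xa17, 0xe0c160e141517), (0xd1415, 0xa160e111517), (0x170c160e111617, 0x1509)],
  [(93, 2, [1, 2, 3])]⟩
def S1_0 : GenC := ⟨6, [(0x15090d, 0xf17), (0xa0d11, 0x91417)],
  [(0, 0, 11, 1, 0), (12, 1, 0, 0, 0xb0b), (11, 1, 0x150c, 1, 0xe141517), (0, 2, 0xa15, 3, 0x160e1415), (0, 3, 0x1215, 3, 0xa0d1517), (12, 3, 0, 2, 0xd17), (12, 2, 0xc0f, 2, 0xc0c141617), (9, 2, 19, 2, 0x150c0d141617), (0xc09, 2, 0, 1, 0xe0c0d1517), (0, 1, 0xc12, 2, 0xe0c0f16)], 5⟩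
def L1 : Level := ⟨0x7fff00, 0x7ffff0, [12, 14, 18, 21, 23], 1440, 1, 0, 175, [R1_0, R1_1, R1_2], [S1_0]⟩
def X1 : Ext := [(4, 6, 0), (6, 0, 0xb16060c060b160e16), (7, 7, 0)]

def R0_0 : RepC := ⟨0x30602, 175, [(0xc0c0d1115, 0xb0806090e111617), (0x170c11, 0x808050a0d1417), (0xc11, 0x150705150c0e1617), (0xb1216, 0x1116070f141617)],
  [(61, 4, [1, 2, 3, 4]), (93, 2, [1, 2, 3])]⟩
def S0_0 : GenC := ⟨2, [(0x140c080f17, 0xd08050e0c17), (0xa08111617, 0x50c060b0d1517)],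
  [(0, 0, 0x50806, 1, 0x716060a1116), (0x608, 1, 0, 0, 0x80d070c0d1417), (6, 1, 0x705, 1, 0x11070b0b12), (0, 1, 0xb0806, 1, 0x110705170c0f1115), (0x507, 1, 0xe07, 1, 0x615080c0c160e111517)], 6⟩
def L0 : Level := ⟨0x7ffff0, 0x7fffff, [6, 12, 14, 18, 21, 23], 252000, 0, 0, 176, [R0_0], [S0_0]⟩
def X0 : Ext := [(0, 2, 0), (2, 0, 0x1001071706090d11), (3, 3, 0)]

def top : List ℕ := [1, 3]
def gs : List ℕ := [2, 6, 12, 14, 18, 21, 23]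
def XD : Ext := [(1, 1, 0), (3, 3, 0), (4, 0, 0x4010401010101), (5, 5, 0), (6, 0, 0x20203010301010303020204), (7, 7, 0), (8, 0, 0x6070508080508050507060706), (9, 9, 0), (10, 0, 0x60806070606080505070705), (11, 11, 0), (12, 0, 0xb090c090909), (13, 13, 0), (14, 0, 0xa0a0b0a0c0909), (15, 15, 0), (16, 0, 0xe10), (17, 17, 0), (18, 0, 0xd0f0e0f), (19, 19, 0), (20, 0, 0x1213), (21, 0, 0x1213111114), (22, 0, 0x161516)]
def MX : Level.MaxC := [[(0x50806, [0x716060a1116])]]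
def NC : NclD := ⟨0x170308, 11, [(0, [23, 0x20b020e0c0715090e141617]), (2, [0x60d, 0xf011208060a0e12])]⟩

/-- all the equations of the certificate -/
structure Eqs {G : Type*} [Group G] (g : ℕ → G) : Prop where
  l6 : AllHold g L6.eqns
  x6 : AllHold g X6.eqns
  l5 : AllHold g L5.eqns
  x5 : AllHold g X5.eqns
  l4 : AllHold g L4.eqns
  x4 : AllHold g X4.eqns
  l3 : AllHold g L3.eqns
  x3 : AllHold g X3.eqns
  l2 : AllHold g L2.eqns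
  x2 : AllHold g X2.eqns
  l1 : AllHold g L1.eqns
  x1 : AllHold g X1.eqns
  l0 : AllHold g L0.eqns
  x0 : AllHold g X0.eqns
  xd : AllHold g XD.eqns
  mx : AllHold g (L0.maxEqns MX)
  nc : AllHold g NC.eqns

end CfsgLib.Leech.CHS
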